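import Mathlib

/-!
# Galois descent for morphisms: the pairs of points of `Spec K` over `Spec k`
-/

set_option autoImplicit false
set_option backward.isDefEq.respectTransparency false
set_option linter.style.haveILetI false
set_option linter.unusedSectionVars false

universe u

open CategoryTheory CategoryTheory.Limits AlgebraicGeometry
open scoped TensorProduct

namespace Groth.Agent.GalDesc

variable (k : Type u) [Field k] (K : Type u) [Field K] [Algebra k K]

/-- `a ⊗ b ↦ (σ ↦ a * σ b)`. -/
noncomputable def split : K ⊗[k] K →ₐ[K] ((K ≃ₐ[k] K) → K) :=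
  Algebra.TensorProduct.lift (Algebra.ofId K _)
    (AlgHom.pi fun σ : K ≃ₐ[k] K => (σ : K →ₐ[k] K)) (fun _ _ => Commute.all _ _)

variable {k K}

@[simp] lemma split_tmul (a b : K) (σ : K ≃ₐ[k] K) : split k K (a ⊗ₜ b) σ = a * σ b := by
  simp [split]

variable [FiniteDimensional k K] [IsGalois k K]

lemma split_bijective : Function.Bijective (split k K) := by
  classical
  have hsurj : Function.Surjective (split k K).toLinearMap := by
    rw [← LinearMap.range_eq_top]
    by_contra hne
    obtain ⟨φ, hφ, hle⟩ := Submodule.exists_le_ker_of_lt_top _ (lt_top_iff_ne_top.2 hne)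
    apply hφ
    have hli := (linearIndependent_toLinearMap k K K).comp
      (fun σ : K ≃ₐ[k] K => (σ : K →ₐ[k] K)) (algEquivEquivAlgHom k K).injective
    have hz := Fintype.linearIndependent_iff.1 hli (fun σ => φ (Pi.single σ 1)) (by
      refine LinearMap.ext fun b => ?_
      have h0 : φ (split k K (1 ⊗ₜ b)) = 0 := hle (LinearMap.mem_range_self (split k K).toLinearMap (1 ⊗ₜ b))
      have h1 : split k K (1 ⊗ₜ b) = ∑ σ : K ≃ₐ[k] K, (σ b) • Pi.single σ (1 : K) := by
        funext τ
        simp [Finset.sum_apply, Pi.single_apply]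
      rw [h1, map_sum] at h0
      simpa [mul_comm] using h0)
    refine LinearMap.pi_ext fun σ x => ?_
    have : Pi.single σ x = x • Pi.single σ (1 : K) := by simp [← Pi.single_smul']
    rw [this, map_smul, hz σ, smul_zero, LinearMap.zero_apply]
  refine ⟨?_, hsurj⟩
  have hdim : Module.finrank K (K ⊗[k] K) = Module.finrank K ((K ≃ₐ[k] K) → K) := by
    rw [Module.finrank_baseChange, Module.finrank_pi, ← Nat.card_eq_fintype_card,
      IsGalois.card_aut_eq_finrank]
  exact (LinearMap.injective_iff_surjective_of_finrank_eq_finrank hdim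
    (f := (split k K).toLinearMap)).2 hsurj

variable (k K)

/-- The structure morphism `Spec K ⟶ Spec k`. -/
noncomputable abbrev sK : Spec (CommRingCat.of K) ⟶ Spec (CommRingCat.of k) :=
  Spec.map (CommRingCat.ofHom (algebraMap k K))

/-- The graph of `σ`. -/
noncomputable def graph (σ : K ≃ₐ[k] K) :
    Spec (CommRingCat.of K) ⟶ pullback (sK k K) (sK k K) :=
  Spec.map (CommRingCat.ofHom ((Pi.evalRingHom (fun _ => K) σ).comp (split k K).toRingHom)) ≫
    (pullbackSpecIso k K K).inv

@[reassoc] lemma graph_fst (σ : K ≃ₐ[k] K) : graph k K σ ≫ pullback.fst _ _ = 𝟙 _ := by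
  rw [graph, Category.assoc, pullbackSpecIso_inv_fst, ← Spec.map_comp, ← Spec.map_id]
  congr 1
  ext a
  show split k K (a ⊗ₜ 1) σ = a
  simp

@[reassoc] lemma graph_snd (σ : K ≃ₐ[k] K) : graph k K σ ≫ pullback.snd _ _ =
    Spec.map (CommRingCat.ofHom (σ : K →ₐ[k] K).toRingHom) := by
  rw [graph, Category.assoc, pullbackSpecIso_inv_snd, ← Spec.map_comp]
  congr 1
  ext b
  show split k K (1 ⊗ₜ b) σ = σ b
  simp

instance (σ : K ≃ₐ[k] K) : IsOpenImmersion (graph k K σ) := by
  haveI : IsIso (CommRingCat.ofHom (split k K).toRingHom) :=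
    (ConcreteCategory.isIso_iff_bijective _).2 split_bijective
  rw [graph, CommRingCat.ofHom_comp, Spec.map_comp]
  infer_instance

lemma exists_graph_eq (p : ↥(pullback (sK k K) (sK k K))) : ∃ σ, p ∈ Set.range (graph k K σ) := by
  haveI : IsIso (CommRingCat.ofHom (split k K).toRingHom) :=
    (ConcreteCategory.isIso_iff_bijective _).2 split_bijective
  let j := Spec.map (CommRingCat.ofHom (split k K).toRingHom) ≫ (pullbackSpecIso k K K).inv
  obtain ⟨q, rfl⟩ := j.homeomorph.surjective p
  obtain ⟨⟨σ, r⟩, rfl⟩ := (PrimeSpectrum.sigmaToPi_bijective (fun _ : K ≃ₐ[k] K => K)).2 q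
  refine ⟨σ, r, ?_⟩
  rw [graph, CommRingCat.ofHom_comp, Spec.map_comp, Category.assoc]
  rfl

/-- The cover of `Spec K ×_k Spec K` by the graphs. -/
noncomputable def graphCover : (pullback (sK k K) (sK k K)).OpenCover :=
  Scheme.Cover.mkOfCovers (K ≃ₐ[k] K) (fun _ => Spec (CommRingCat.of K)) (graph k K)
    (fun p => exists_graph_eq k K p) (fun σ => inferInstanceAs (IsOpenImmersion (graph k K σ)))

end Groth.Agent.GalDesc
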